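import Mathlib
import Cfsg.Agent.LieClassical.HermSiegel
import Cfsg.Agent.ClassicalGeometry.PSUAutCount

/-!
# `SU₆(2)`: the matrices `X i` (`i < 40`), representatives of the classes up to scalars and `GU₆(2)` (helper767)

Packed matrices: the entry `(r, c)` of `P` is `cd P r c = (P >>> (2 * (6 * r + c))) &&& 3`, a code
`0, 1, 2 = w, 3 = w + 1 = w²`.
-/

set_option autoImplicit false
set_option linter.unusedSectionVars false

namespace Cfsg.Agent.H767.U6

open Cfsg Matrix

/-- the packed matrices -/
def XP : List ℕ := [
  1180663682709764194305, 1180663682709764190216, 1180645699097580277764, 591160503275243720948,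
  3541846924145090338838, 1180735744702335389738, 1180807802295886594050, 2361327365420048633886,
  1697947259054774747139, 4042130110676327215208, 2140290867232166301735, 885731961032982343750,
  1180716916737265201290, 1180735737351985774737, 2361470929824976212394, 3541804155906954166274,
  1180698063765130146736, 1180807796799133724676, 3541918990535103795263, 885731949971025830116,
  295436138857260654600, 1693590923470988262170, 2361349929876646879926, 4540833679264323270175,
  1180663687108431613981, 3541846924144838692910, 821957474666607539530, 886308409553889951825,
  2831616121229744392845, 3542061695602019766778, 2361327365419645968429, 1180663688345214570728,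
  2361255304390792515609, 591160505886264447006, 3993632988589198580067, 3541846930811433230428,
  4353846165658291888149, 2361451789734077776763, 295436147375707828466, 1180831759005982232732]

/-- the entry `(r, c)` -/
def cd (P r c : ℕ) : ℕ := Nat.land (Nat.shiftRight P (2 * (6 * r + c))) 3

section

variable {F : Type*} [Field F]

/-- the elements of the field: `0, 1, w, w + 1` -/
def d4 (w : F) : ℕ → F
  | 0 => 0
  | 1 => 1
  | 2 => w
  | _ => w + 1

/-- the matrix of a packed matrix -/
def mt (w : F) (P : ℕ) : Matrix (Fin 6) (Fin 6) F := fun r c => d4 w (cd P r c)

/-- the representatives -/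
def X (w : F) (i : ℕ) : Matrix (Fin 6) (Fin 6) F := mt w (XP.getD i 0)

end

end Cfsg.Agent.H767.U6
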