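import Cfsg.Agent.H767.U6.K0
import Cfsg.Agent.H767.U6.K1
import Cfsg.Agent.H767.U6.K2
import Cfsg.Agent.H767.U6.K3
import Cfsg.Agent.H767.U6.K4
import Cfsg.Agent.H767.U6.K5
import Cfsg.Agent.H767.U6.K6
import Cfsg.Agent.H767.U6.K7
import Cfsg.Agent.H767.U6.K8
import Cfsg.Agent.H767.U6.K9
import Cfsg.Agent.H767.U6.K10
import Cfsg.Agent.H767.U6.K11
import Cfsg.Agent.H767.U6.Det
import Cfsg.Agent.S0277

/-!
# The classes of `SU₆(2)` up to scalars and conjugation in `GU₆(2)` (helper767)

`cover` : every element of `SU₆(2)` is conjugate in `GU₆(2)` to a scalar multiple of one of the 40 matrices `X w i`.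
-/

set_option autoImplicit false
set_option linter.unusedSectionVars false
set_option maxRecDepth 100000

namespace Cfsg.Agent.H767.U6

open Cfsg Matrix Cfsg.Agent.SporadicA.PermTab Subgroup
open Cfsg.Agent.LieClassical.HermBasic Cfsg.Agent.ClassicalGeometry.PSUAutCount
open Cfsg.Agent.LieClassical.GUOrder (detGU kerEquiv coe_detGU card_GU_eq)
open Cfsg.Agent.LieClassical.HermSiegel (mat mkSU mat_mkSU)

/-! ### classes by counting -/

section classes

variable {G : Type*} [Group G] [Finite G]

omit [Finite G] in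
theorem card_class (x : G) :
    Nat.card {y : G // IsConj x y} * Nat.card ↥(Subgroup.centralizer ({x} : Set G)) = Nat.card G := by
  have h1 : Nat.card {y : G // IsConj x y} = Nat.card (MulAction.orbit (ConjAct G) x) := by
    refine Nat.card_congr (Equiv.subtypeEquivRight fun y => ?_)
    rw [ConjAct.mem_orbit_conjAct]
    exact ⟨fun h => h.symm, fun h => h.symm⟩
  have h2 : Nat.card ↥(Subgroup.centralizer ({x} : Set G)) = Nat.card (MulAction.stabilizer (ConjAct G) x) := by
    rw [ConjAct.stabilizer_eq_centralizer]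
    rfl
  have h3 := Nat.card_congr (MulAction.orbitProdStabilizerEquivGroup (ConjAct G) x)
  rw [Nat.card_prod] at h3
  rw [h1, h2, h3]
  rfl

/-- **The class list criterion** for a normal subgroup. -/
theorem complete (N : Subgroup G) [N.Normal] {ι : Type} [Fintype ι] (x : ι → G) (c : ι → ℕ) (hN : ∀ i, x i ∈ N)
    (hc : ∀ i, Nat.card ↥(Subgroup.centralizer ({x i} : Set G)) ≤ c i) (hd : ∀ i j, IsConj (x i) (x j) → i = j)
    (hs : Nat.card N ≤ ∑ i, Nat.card G / c i) (g : G) (hg : g ∈ N) : ∃ i, IsConj (x i) g := by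
  classical
  have hmem : ∀ i (y : G), IsConj (x i) y → y ∈ N := by
    intro i y h
    obtain ⟨k, rfl⟩ := isConj_iff.1 h
    exact Subgroup.Normal.conj_mem inferInstance _ (hN i) k
  let f : (Σ i : ι, {y : G // IsConj (x i) y}) → N := fun s => ⟨s.2.1, hmem s.1 _ s.2.2⟩
  have hf : Function.Injective f := by
    rintro ⟨i, y, hy⟩ ⟨j, z, hz⟩ h
    have h1 : y = z := congrArg Subtype.val h
    subst h1
    have h2 := hd i j (hy.trans hz.symm)
    subst h2
    rfl
  have hcard : Nat.card N ≤ Nat.card (Σ i : ι, {y : G // IsConj (x i) y}) := by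
    rw [Nat.card_sigma]
    refine hs.trans (Finset.sum_le_sum fun i _ => ?_)
    have h5 : 0 < c i := lt_of_lt_of_le Nat.card_pos (hc i)
    apply Nat.div_le_of_le_mul
    rw [← card_class (x i), mul_comm (c i)]
    exact Nat.mul_le_mul_left _ (hc i)
  obtain ⟨⟨i, y, hy⟩, h⟩ := (hf.bijective_of_nat_card_le hcard).2 ⟨g, hg⟩
  refine ⟨i, ?_⟩
  have h1 : y = g := congrArg Subtype.val h
  rw [← h1]
  exact hy

end classes

/-! ### the list -/

theorem chk_all : ∀ r ∈ DL, r.chk = true := by
  intro r hr
  unfold DL at hr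
  rcases List.mem_append.1 hr with h | hr
  · exact chkL_spec k0 r h
  rcases List.mem_append.1 hr with h | hr
  · exact chkL_spec k1 r h
  rcases List.mem_append.1 hr with h | hr
  · exact chkL_spec k2 r h
  rcases List.mem_append.1 hr with h | hr
  · exact chkL_spec k3 r h
  rcases List.mem_append.1 hr with h | hr
  · exact chkL_spec k4 r h
  rcases List.mem_append.1 hr with h | hr
  · exact chkL_spec k5 r h
  rcases List.mem_append.1 hr with h | hr
  · exact chkL_spec k6 r h
  rcases List.mem_append.1 hr with h | hr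
  · exact chkL_spec k7 r h
  rcases List.mem_append.1 hr with h | hr
  · exact chkL_spec k8 r h
  rcases List.mem_append.1 hr with h | hr
  · exact chkL_spec k9 r h
  rcases List.mem_append.1 hr with h | h
  · exact chkL_spec k10 r h
  · exact chkL_spec k11 r h

theorem dl_nodup : (DL.map Rec.J).Nodup := by decide +kernel

theorem dl_sum : Nat.ble 27590492160 ((DL.map fun r => 82771476480 / bnd r.L).sum) = true := by decide +kernel

section

variable {F : Type*} [Field F] [Fintype F] {w : F}

theorem card_gu (hF : Fintype.card F = 2 ^ 2) : Nat.card (GU 6 F 2) = 82771476480 := by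
  rw [Cfsg.Agent.S0277.result hF 6]
  decide +kernel

theorem card_ker (hF : Fintype.card F = 2 ^ 2) : Nat.card (detGU 6 F 2).ker = 27590492160 := by
  have h := card_GU_eq (F := F) (q := 2) hF (n := 6) (by norm_num)
  rw [card_gu hF, ← Nat.card_congr (kerEquiv (F := F) (q := 2) 6)] at h
  omega

theorem four (hF : Fintype.card F = 2 ^ 2) (x : F) : x ^ 4 = x := by
  have h := FiniteField.pow_card x
  rw [hF] at h
  exact h

theorem two (hF : Fintype.card F = 2 ^ 2) : (2 : F) = 0 := by
  obtain ⟨p, hp⟩ := CharP.exists F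
  obtain ⟨k, hprime, hcard⟩ := FiniteField.card F p
  rw [hF] at hcard
  have h1 : p ∣ 2 ^ 2 := by
    rw [hcard]
    exact dvd_pow_self p k.pos.ne'
  have h2 : p ∣ 2 := hprime.dvd_of_dvd_pow h1
  have h3 : p = 2 := (Nat.prime_dvd_prime_iff_eq hprime Nat.prime_two).1 h2
  subst h3
  exact_mod_cast CharP.cast_eq_zero F 2

/-- the cover for `GU` -/
theorem cover_gu (hF : Fintype.card F = 2 ^ 2) (hw : w ^ 2 + w + 1 = 0) (g : GU 6 F 2) (hg : (gm g).det = 1) :
    ∃ i < 40, ∃ l, (l = 1 ∨ l = 2 ∨ l = 3) ∧ ∃ c : GU 6 F 2, gm c * gm g = (d4 w l • X w i) * gm c := by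
  have h2 := two hF
  have hc4 := four hF
  have hfin : Finite (GU 6 F 2) := Finite.of_injective gm fun A B h => gm_inj h
  have hsp : ∀ i : Fin DL.length, _ := fun i => Rec.spec (F := F) hF hc4 h2 hw (chk_all (DL.get i) (DL.get_mem i))
  choose x hx hi40 hl0 hl4 hX hcent hj1 hj2 hj3 hj4 using hsp
  have hinj : Function.Injective fun i : Fin DL.length => (DL.get i).J := by
    have h := List.nodup_iff_injective_get.1 dl_nodup
    intro i j hij
    have e : ∀ k : Fin DL.length, (DL.map Rec.J).get (Fin.cast (by rw [List.length_map]) k) = (DL.get k).J := by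
      intro k
      simp
    have h3 := h ((e i).trans (hij.trans (e j).symm))
    exact Fin.ext (congrArg (fun t : Fin (DL.map Rec.J).length => (t : ℕ)) h3)
  obtain ⟨i, hi⟩ := complete (detGU 6 F 2).ker x (fun i => bnd (DL.get i).L) (by
      intro i
      rw [MonoidHom.mem_ker]
      apply Units.ext
      rw [coe_detGU, Units.val_one]
      show (gm (x i)).det = 1
      rw [hx, hX, Matrix.det_smul, det_X h2 hw (hi40 i), mul_one, Fintype.card_fin]
      have hl := hl4 i
      have hl' := hl0 i
      have hu : (d4 w (DL.get i).l) ^ 4 = d4 w (DL.get i).l := hc4 _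
      have hne : d4 w (DL.get i).l ≠ 0 := by
        intro h0
        have := d4_inj h2 hw hl (by norm_num : 0 < 4) h0
        omega
      have h3 : (d4 w (DL.get i).l) ^ 3 = 1 := by
        apply mul_left_cancel₀ hne
        rw [mul_one, ← pow_succ']
        exact hu
      calc (d4 w (DL.get i).l) ^ 6 = ((d4 w (DL.get i).l) ^ 3) ^ 2 := by ring
        _ = 1 := by rw [h3, one_pow]) hcent (by
      intro i j hij
      apply hinj
      obtain ⟨c, hc⟩ := isConj_iff.1 hij
      have h3 : gm c * gm (x i) = gm (x j) * gm c := by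
        rw [← gm_mul, ← gm_mul, ← hc]
        congr 1
        group
      show (DL.get i).J = (DL.get j).J
      unfold Rec.J
      rw [← hj1 i, ← hj1 j, ← hj2 i, ← hj2 j, ← hj3 i, ← hj3 j, ← hj4 i, ← hj4 j, inv_conj h3, inv_conj h3,
        inv_conj h3, inv_conj h3]) (by
      rw [card_ker hF, card_gu hF]
      have h3 := dl_sum
      rw [Nat.ble_eq] at h3
      refine h3.trans (le_of_eq ?_)
      have h5 : ∀ (L : List Rec) (f : Rec → ℕ), (L.map f).sum = ∑ i : Fin L.length, f (L.get i) := by
        intro L f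
        rw [← List.sum_ofFn]
        congr 1
        apply List.ext_get
        · simp
        · intro n h1 h2
          simp
      exact h5 DL _) g (by
      rw [MonoidHom.mem_ker]
      apply Units.ext
      rw [coe_detGU, Units.val_one]
      exact hg)
  obtain ⟨c, hc⟩ := isConj_iff.1 hi
  refine ⟨(DL.get i).i, hi40 i, (DL.get i).l, ?_, c⁻¹, ?_⟩
  · have h3 := hl0 i
    have h4 := hl4 i
    omega
  · rw [← hX, ← hx, ← gm_mul, ← gm_mul, ← hc]
    congr 1
    group

/-- **The cover of `SU₆(2)`.** -/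
theorem cover (hF : Fintype.card F = 2 ^ 2) (hw : w ^ 2 + w + 1 = 0) (g : SU 6 F 2) :
    ∃ i < 40, ∃ l, (l = 1 ∨ l = 2 ∨ l = 3) ∧ ∃ c : GU 6 F 2, gm c * mat g = (d4 w l • X w i) * gm c := by
  let g' : GU 6 F 2 := ⟨((g : Matrix.SpecialLinearGroup (Fin 6) F) : GL (Fin 6) F), fun u v => g.2 u v⟩
  exact cover_gu hF hw g' g.1.2

/-- the representatives are in `SU₆(2)` -/
theorem exists_su (hF : Fintype.card F = 2 ^ 2) (hw : w ^ 2 + w + 1 = 0) {i : ℕ} (hi : i < 40) :
    ∃ s : SU 6 F 2, mat s = X w i := by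
  have h2 := two hF
  have hc4 := four hF
  have key : ∀ i < 40, uniB (XP.getD i 0) = true := by
    have : allB (fun i => uniB (XP.getD i 0)) 40 = true := by decide +kernel
    exact (allB_iff _ _).1 this
  obtain ⟨g, hg⟩ := exists_gu h2 (fun r c => uniB_eq h2 hw (key i hi) r c) hF hc4
  refine ⟨mkSU (X w i) (det_X h2 hw hi) fun u v => ?_, rfl⟩
  have := herm_gm g u v
  rw [hg] at this
  exact this

end

end Cfsg.Agent.H767.U6
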