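import Cfsg.Agent.H767.U6.Mats
import Cfsg.Agent.SporadicA.PermTab

/-!
# Truth tables of functions on `F₄⁶` (helper767)

The vectors of `F₄⁶` have numbers `n < 4096` (`vec w n`), a function `f` with values in `F₄` is a pair of numbers with
4096 bits (`Rep`). `accL`, `accH` : linear combinations.
-/

set_option autoImplicit false
set_option linter.unusedSectionVars false

namespace Cfsg.Agent.H767.U6

open Cfsg Matrix Cfsg.Agent.SporadicA.PermTab

/-! ### bits -/

/-- bit `n` of `T` -/
def tb (T n : ℕ) : Bool := Nat.beq (Nat.land (Nat.shiftRight T n) 1) 1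

theorem tb_eq (T n : ℕ) : tb T n = T.testBit n := by
  have h1 : Nat.land (Nat.shiftRight T n) 1 = (T >>> n) % 2 := Nat.and_one_is_mod _
  have h2 : Nat.shiftRight T n = T >>> n := rfl
  rw [Bool.eq_iff_iff, tb, h1, Nat.beq_eq, Nat.testBit_eq_decide_div_mod_eq, decide_eq_true_iff,
    Nat.shiftRight_eq_div_pow]

theorem tb_xor (S T n : ℕ) : tb (Nat.xor S T) n = (tb S n ^^ tb T n) := by
  rw [tb_eq, tb_eq, tb_eq]
  exact Nat.testBit_xor _ _ _

theorem tb_land (S T n : ℕ) : tb (Nat.land S T) n = (tb S n && tb T n) := by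
  rw [tb_eq, tb_eq, tb_eq]
  exact Nat.testBit_and _ _ _

theorem tb_zero (n : ℕ) : tb 0 n = false := by
  rw [tb_eq, Nat.zero_testBit]

theorem tb_cond (b : Bool) (T n : ℕ) : tb (cond b T 0) n = (b && tb T n) := by
  cases b
  · rw [cond_false, tb_zero, Bool.false_and]
  · rw [cond_true, Bool.true_and]

theorem tb_shift (T k n : ℕ) : tb (Nat.shiftRight T k) n = tb T (k + n) := by
  rw [tb_eq, tb_eq]
  exact Nat.testBit_shiftRight T

/-- all bits -/
def FULL : ℕ := 2 ^ 4096 - 1

theorem tb_full {n : ℕ} (hn : n < 4096) : tb FULL n = true := by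
  rw [tb_eq, FULL, Nat.testBit_two_pow_sub_one]
  exact decide_eq_true hn

/-! ### the field -/

section

variable {F : Type*} [Field F] {w : F}

/-- the element with two given bits -/
def eb (w : F) (a b : Bool) : F := cond a 1 0 + cond b w 0

theorem d4_land (x : ℕ) : d4 w (Nat.land x 3) = eb w (tb x 0) (tb x 1) := by
  have h1 : Nat.land x 3 = x % 4 := by
    have := Nat.and_two_pow_sub_one_eq_mod x 2
    exact this
  have h2 : tb x 0 = decide (x % 4 % 2 = 1) := by
    rw [tb_eq, Nat.testBit_eq_decide_div_mod_eq]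
    congr 1
    rw [eq_iff_iff]
    constructor <;> intro h <;> omega
  have h3 : tb x 1 = decide (x % 4 / 2 = 1) := by
    rw [tb_eq, Nat.testBit_eq_decide_div_mod_eq]
    congr 1
    rw [eq_iff_iff]
    constructor <;> intro h <;> omega
  rw [h1, h2, h3]
  have h4 : x % 4 < 4 := Nat.mod_lt _ (by norm_num)
  interval_cases x % 4 <;> simp [d4, eb, add_comm]

theorem eb_add (h2 : (2 : F) = 0) (a b a' b' : Bool) : eb w a b + eb w a' b' = eb w (a ^^ a') (b ^^ b') := by
  cases a <;> cases b <;> cases a' <;> cases b' <;> simp only [eb, cond_true, cond_false, Bool.xor_false,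
    Bool.xor_true, Bool.not_true, Bool.not_false, add_zero, zero_add] <;>
    first | ring1 | linear_combination h2 | linear_combination w * h2 | linear_combination (1 + w) * h2

theorem eb_mul (h2 : (2 : F) = 0) (hw : w ^ 2 + w + 1 = 0) (a b a' b' : Bool) :
    eb w a b * eb w a' b' = eb w ((a && a') ^^ (b && b')) ((a && b') ^^ (b && a') ^^ (b && b')) := by
  cases a <;> cases b <;> cases a' <;> cases b' <;> simp only [eb, cond_true, cond_false, Bool.xor_false,
    Bool.xor_true, Bool.not_true, Bool.not_false, add_zero, zero_add, Bool.and_true, Bool.and_false, Bool.xor_self,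
    mul_zero, zero_mul, mul_one, one_mul] <;>
    first | ring1 | linear_combination hw - h2 | linear_combination hw - (1 + w) * h2 | linear_combination hw

theorem eb_sq (h2 : (2 : F) = 0) (hw : w ^ 2 + w + 1 = 0) (a b : Bool) : eb w a b ^ 2 = eb w (a ^^ b) b := by
  rw [sq, eb_mul h2 hw]
  congr 1
  · cases a <;> cases b <;> rfl
  · cases a <;> cases b <;> rfl

theorem eb_inj (h2 : (2 : F) = 0) (hw : w ^ 2 + w + 1 = 0) {a b a' b' : Bool} (h : eb w a b = eb w a' b') :
    a = a' ∧ b = b' := by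
  have w0 : w ≠ 0 := by
    rintro rfl
    norm_num at hw
  have w1 : w + 1 ≠ 0 := by
    intro h
    have : (1 : F) = 0 := by linear_combination hw - w * h
    exact one_ne_zero this
  have key : ∀ c d : Bool, eb w c d = 0 → c = false ∧ d = false := by
    intro c d hcd
    cases c <;> cases d <;> simp only [eb, cond_true, cond_false, add_zero, zero_add] at hcd
    · exact ⟨rfl, rfl⟩
    · exact absurd hcd w0
    · exact absurd hcd one_ne_zero
    · exact absurd (by rw [add_comm]; exact hcd) w1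
  have h3 : eb w (a ^^ a') (b ^^ b') = 0 := by
    rw [← eb_add h2, h, eb_add h2, Bool.xor_self, Bool.xor_self]
    simp [eb]
  obtain ⟨h4, h5⟩ := key _ _ h3
  constructor
  · revert h4; cases a <;> cases a' <;> decide
  · revert h5; cases b <;> cases b' <;> decide

/-! ### vectors -/

/-- the vector with number `n` -/
def vec (w : F) (n : ℕ) : Fin 6 → F := fun i => d4 w (Nat.land (Nat.shiftRight n (2 * (i : ℕ))) 3)

theorem vec_apply (n : ℕ) (i : Fin 6) : vec w n i = eb w (tb n (2 * i)) (tb n (2 * i + 1)) := by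
  unfold vec
  rw [d4_land, tb_shift, tb_shift, add_zero]

/-- `f` has the table `(a, b)` -/
def Rep (w : F) (a b : ℕ) (f : (Fin 6 → F) → F) : Prop := ∀ n < 4096, f (vec w n) = eb w (tb a n) (tb b n)

/-- low bits of `∑ conj (P_j) L_j` -/
noncomputable def accL (L : List (ℕ × ℕ)) : ℕ → ℕ :=
  List.rec (fun _ => 0) (fun t _ ih P => Nat.xor (Nat.xor (cond (Bool.xor (tb P 0) (tb P 1)) t.1 0) (cond (tb P 1) t.2 0))
    (ih (Nat.shiftRight P 2))) L

/-- high bits of `∑ conj (P_j) L_j` -/
noncomputable def accH (L : List (ℕ × ℕ)) : ℕ → ℕ :=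
  List.rec (fun _ => 0) (fun t _ ih P => Nat.xor (Nat.xor (cond (tb P 0) t.2 0) (cond (tb P 1) t.1 0))
    (ih (Nat.shiftRight P 2))) L

/-- `∑ conj (P_j) f_j` -/
def comb (w : F) : List ((Fin 6 → F) → F) → ℕ → (Fin 6 → F) → F
  | [], _, _ => 0
  | f :: fs, P, v => (d4 w (Nat.land P 3)) ^ 2 * f v + comb w fs (Nat.shiftRight P 2) v

theorem rep_acc (h2 : (2 : F) = 0) (hw : w ^ 2 + w + 1 = 0) {L : List (ℕ × ℕ)} {fs : List ((Fin 6 → F) → F)}
    (h : List.Forall₂ (fun t f => Rep w t.1 t.2 f) L fs) (P : ℕ) : Rep w (accL L P) (accH L P) (comb w fs P) := by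
  induction h generalizing P with
  | nil =>
    intro n _
    show (0 : F) = eb w (tb 0 n) (tb 0 n)
    rw [tb_zero]
    simp [eb]
  | @cons t f L fs ht _ ih =>
    intro n hn
    have h1 : accL (t :: L) P = Nat.xor (Nat.xor (cond (Bool.xor (tb P 0) (tb P 1)) t.1 0) (cond (tb P 1) t.2 0))
      (accL L (Nat.shiftRight P 2)) := rfl
    have h3 : accH (t :: L) P = Nat.xor (Nat.xor (cond (tb P 0) t.2 0) (cond (tb P 1) t.1 0))
      (accH L (Nat.shiftRight P 2)) := rfl
    rw [h1, h3, comb, ih _ n hn, ht n hn, d4_land, eb_sq h2 hw, eb_mul h2 hw, eb_add h2]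
    rw [tb_xor, tb_xor, tb_xor, tb_xor, tb_cond, tb_cond, tb_cond, tb_cond]
    congr 1
    generalize tb P 0 = p
    generalize tb P 1 = q
    generalize tb t.1 n = a
    generalize tb t.2 n = b
    generalize tb (accH L (Nat.shiftRight P 2)) n = c
    revert p q a b c
    decide

theorem rep_mul (h2 : (2 : F) = 0) (hw : w ^ 2 + w + 1 = 0) {a b a' b' : ℕ} {f g : (Fin 6 → F) → F}
    (hf : Rep w a b f) (hg : Rep w a' b' g) :
    Rep w (Nat.xor (Nat.land a a') (Nat.land b b')) (Nat.xor (Nat.xor (Nat.land a b') (Nat.land b a')) (Nat.land b b'))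
      (fun v => f v * g v) := by
  intro n hn
  show f (vec w n) * g (vec w n) = _
  rw [hf n hn, hg n hn, eb_mul h2 hw, tb_xor, tb_xor, tb_xor, tb_land, tb_land, tb_land, tb_land]

theorem rep_sq (h2 : (2 : F) = 0) (hw : w ^ 2 + w + 1 = 0) {a b : ℕ} {f : (Fin 6 → F) → F} (hf : Rep w a b f) :
    Rep w (Nat.xor a b) b (fun v => f v ^ 2) := by
  intro n hn
  show f (vec w n) ^ 2 = _
  rw [hf n hn, eb_sq h2 hw, tb_xor]

end

end Cfsg.Agent.H767.U6
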